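import Groth.Agent.SigmaLinH.Basic

/-! Dévissage of semilinear endomorphisms over Artinian local rings with maximal ideal `(p)`. -/

set_option autoImplicit false

universe u v

namespace Groth.SigmaLinH

open IsLocalRing

theorem exists_root_ne_zero {k : Type u} [Field k] [IsAlgClosed k] (P : Polynomial k) (i j : ℕ)
    (hij : i < j) (hi : P.coeff i ≠ 0) (hj : P.coeff j ≠ 0) : ∃ x : k, x ≠ 0 ∧ P.IsRoot x := by
  have hP : P ≠ 0 := by rintro rfl; simp at hi
  obtain ⟨Q, hQ⟩ := Polynomial.exists_eq_pow_rootMultiplicity_mul_and_not_dvd P hP 0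
  simp only [map_zero, sub_zero] at hQ
  obtain ⟨hQ, hQX⟩ := hQ
  generalize P.rootMultiplicity 0 = m at hQ
  have hdeg : Q.degree ≠ 0 := by
    intro h
    have hQc : Q = Polynomial.C (Q.coeff 0) := Polynomial.eq_C_of_degree_eq_zero h
    have : ∀ l, P.coeff l ≠ 0 → l = m := by
      intro l hl
      rw [hQ, hQc, Polynomial.coeff_mul_C, Polynomial.coeff_X_pow] at hl
      by_contra hne; simp [hne] at hl
    exact absurd ((this i hi).trans (this j hj).symm) (by omega)
  obtain ⟨x, hx⟩ := IsAlgClosed.exists_root Q hdeg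
  refine ⟨x, ?_, by rw [hQ]; simp [Polynomial.IsRoot, hx.eq_zero]⟩
  rintro rfl
  exact hQX (by rw [Polynomial.X_dvd_iff]; rwa [Polynomial.IsRoot, ← Polynomial.coeff_zero_eq_eval_zero] at hx)

theorem H2_frobenius (k : Type u) [Field k] [IsAlgClosed k] (p : ℕ) [Fact p.Prime] [CharP k p] :
    H2 (frobenius k p) := by
  intro n b hb
  have hp : 1 < p := (Fact.out : p.Prime).one_lt
  let P : Polynomial k := (∑ i : Fin (n + 1),
    Polynomial.C (b (Fin.rev i) ^ (p ^ i.val)) * Polynomial.X ^ (p ^ (i.val + 1))) - Polynomial.X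
  obtain ⟨i, hi⟩ := Function.ne_iff.1 hb
  have hne : p ^ ((Fin.rev i).val + 1) ≠ 1 := (Nat.one_lt_pow (by omega) hp).ne'
  obtain ⟨x, hx0, hx⟩ := exists_root_ne_zero P 1 (p ^ ((Fin.rev i).val + 1))
    (Nat.one_lt_pow (by omega) hp) (by
      have : ∀ l : Fin (n + 1), 1 ≠ p ^ (l.val + 1) := fun l => (Nat.one_lt_pow (by omega) hp).ne
      simp [P, ← Polynomial.C_pow, Polynomial.coeff_C_mul, Polynomial.coeff_X_pow, this, -map_pow]) (by
      rw [show P.coeff (p ^ ((Fin.rev i).val + 1)) = b i ^ (p ^ (Fin.rev i).val) by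
        simp [P, Polynomial.coeff_C_mul, Polynomial.coeff_X_pow, Polynomial.coeff_X, hne.symm,
          (Nat.pow_right_injective hp).eq_iff, ← Fin.ext_iff, -Fin.val_rev, -map_pow]]
      exact pow_ne_zero _ hi)
  refine ⟨x, hx0, ?_⟩
  simp only [Polynomial.IsRoot, P, Polynomial.eval_sub, Polynomial.eval_X, Polynomial.eval_finset_sum,
    Polynomial.eval_mul, Polynomial.eval_C, Polynomial.eval_pow, sub_eq_zero] at hx
  conv_lhs => rw [← hx]
  refine Finset.sum_congr rfl fun l _ => ?_
  rw [← coe_iterateFrobenius, ← coe_iterateFrobenius, iterateFrobenius_def, iterateFrobenius_def, mul_comm]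

theorem H2_frobenius_symm (k : Type u) [Field k] [IsAlgClosed k] (p : ℕ) [Fact p.Prime] [CharP k p] :
    H2 (frobeniusEquiv k p).symm.toRingHom := by
  intro n b hb
  have hp : 1 < p := (Fact.out : p.Prime).one_lt
  set s := (frobeniusEquiv k p).symm.toRingHom with hs
  let c : Fin (n + 1) → k := fun i => (⇑s)^[i.val] (b (Fin.rev i))
  obtain ⟨i, hi⟩ := Function.ne_iff.1 hb
  have hci : c (Fin.rev i) ≠ 0 := by
    show (⇑s)^[_] _ ≠ 0
    rw [Fin.rev_rev, ← iterate_map_zero (f := s) (Fin.rev i).val]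
    exact fun h => hi (((frobeniusEquiv k p).symm.injective.iterate _) h)
  let P : Polynomial k := Polynomial.X ^ (p ^ (n + 1)) -
    ∑ j : Fin (n + 1), Polynomial.C (c j) * Polynomial.X ^ (p ^ (n - j.val))
  have hne : ∀ l : Fin (n + 1), p ^ (n + 1) ≠ p ^ (n - l.val) := fun l =>
    (Nat.pow_lt_pow_right hp (by omega)).ne'
  obtain ⟨y, hy0, hy⟩ := exists_root_ne_zero P (p ^ (n - (Fin.rev i).val)) (p ^ (n + 1))
    (Nat.pow_lt_pow_right hp (by omega)) (by
      rw [show P.coeff (p ^ (n - (Fin.rev i).val)) = - c (Fin.rev i) by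
        have hinj : ∀ l : Fin (n + 1), p ^ (n - (Fin.rev i).val) = p ^ (n - l.val) ↔ Fin.rev i = l := fun l => by
          rw [(Nat.pow_right_injective hp).eq_iff, Fin.ext_iff]; omega
        simp [P, Polynomial.coeff_C_mul, Polynomial.coeff_X_pow, (hne _).symm, hinj, -Fin.val_rev]]
      exact neg_ne_zero.2 hci) (by simp [P, Polynomial.coeff_C_mul, Polynomial.coeff_X_pow, hne])
  simp only [Polynomial.IsRoot, P, Polynomial.eval_sub, Polynomial.eval_pow, Polynomial.eval_X,
    Polynomial.eval_finset_sum, Polynomial.eval_mul, Polynomial.eval_C, sub_eq_zero] at hy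
  refine ⟨y ^ (p ^ (n + 1)), pow_ne_zero _ hy0, ?_⟩
  conv_lhs => rw [hy]
  refine Finset.sum_congr rfl fun l _ => ?_
  have key : ∀ (m a : ℕ), (⇑s)^[m] (y ^ (p ^ (m + a))) = y ^ (p ^ a) := by
    intro m
    induction m with
    | zero => simp
    | succ m ih =>
      intro a
      rw [Function.iterate_succ_apply', show m + 1 + a = m + (a + 1) by omega, ih]
      rw [hs, show (y : k) ^ (p ^ (a + 1)) = frobeniusEquiv k p (y ^ (p ^ a)) by
        rw [frobeniusEquiv_apply, frobenius_def, ← pow_mul, ← pow_succ]]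
      simp
  have e1 := key (l.val + 1) (n - l.val)
  rw [show l.val + 1 + (n - l.val) = n + 1 by omega] at e1
  rw [e1, mul_comm]

theorem H3_frobenius (k : Type u) [Field k] [IsAlgClosed k] (p : ℕ) [Fact p.Prime] [CharP k p] :
    H3 (frobenius k p) := by
  intro c
  have hp : 1 < p := (Fact.out : p.Prime).one_lt
  obtain ⟨y, hy⟩ := IsAlgClosed.exists_root (Polynomial.X ^ p - Polynomial.X + Polynomial.C c) (by
    rw [sub_add, Polynomial.degree_sub_eq_left_of_degree_lt] <;> rw [Polynomial.degree_X_pow]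
    · exact_mod_cast (by omega : p ≠ 0)
    · exact lt_of_le_of_lt (Polynomial.degree_sub_le _ _)
        (max_lt (by rw [Polynomial.degree_X]; exact_mod_cast hp)
          (Polynomial.degree_C_le.trans_lt (by exact_mod_cast (by omega : 0 < p)))))
  exact ⟨y, by simpa [Polynomial.IsRoot, frobenius_def] using hy⟩

theorem H3_frobenius_symm (k : Type u) [Field k] [IsAlgClosed k] (p : ℕ) [Fact p.Prime] [CharP k p] :
    H3 (frobeniusEquiv k p).symm.toRingHom := by
  intro c
  obtain ⟨y, hy⟩ := H3_frobenius k p (-c)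
  refine ⟨frobenius k p y, ?_⟩
  show (frobeniusEquiv k p).symm (frobeniusEquiv k p y) - _ + c = 0
  rw [RingEquiv.symm_apply_apply]
  linear_combination -hy

theorem frobenius_fixed_finite (k : Type u) [Field k] (p : ℕ) [Fact p.Prime] [CharP k p] :
    {x : k | frobenius k p x = x}.Finite := by
  have hp : 1 < p := (Fact.out : p.Prime).one_lt
  refine (Polynomial.finite_setOfPred_isRoot (p := Polynomial.X ^ p - Polynomial.X)
    (FiniteField.X_pow_card_sub_X_ne_zero k hp)).subset fun x hx => ?_
  simp only [Set.mem_ofPred_eq, frobenius_def] at hx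
  simp [Polynomial.IsRoot, hx]

section Devissage

variable {p : ℕ} {R : Type u} [CommRing R] [IsLocalRing R]

/-- The quotient by `p` as a subset. -/
theorem devissage (hmax : maximalIdeal R = Ideal.span {(p : R)}) (σ : R →+* R) (σbar : ResidueField R →+* ResidueField R)
    (hσbar : ∀ r : R, σbar (residue R r) = residue R (σ r))
    (hsurj : Function.Surjective σbar) (h2 : H2 σbar) (h3 : H3 σbar) :
    ∀ (j : ℕ) (M : Type v) [AddCommGroup M] [Module R M] [Module.Finite R M] (T : M →ₛₗ[σ] M),
      (∀ m : M, (p : R) ^ j • m = 0) →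
      Function.Surjective (fun m : M => m - T m) ∧
      ((∀ x : ResidueField R, σbar x = x → ∃ r : R, σ r = r ∧ residue R r = x) →
        ∃ s : Finset M, (∀ m ∈ s, T m = m) ∧
          ∀ m, T m = m → m ∈ Submodule.span ↥(RingHom.eqLocus σ (RingHom.id R)) (s : Set M)) := by
  intro j
  induction j with
  | zero =>
    intro M _ _ _ T h
    have hz : ∀ m : M, m = 0 := fun m => by simpa using h m
    exact ⟨fun w => ⟨0, by simp [hz w]⟩, fun _ => ⟨∅, by simp, fun m _ => by rw [hz m]; exact zero_mem _⟩⟩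
  | succ j ih =>
    intro M _ _ _ T h
    let f : M →ₗ[R] M := LinearMap.lsmul R M (p : R)
    have hf : ∀ x, f x = (p : R) • x := fun x => rfl
    let N : Submodule R M := LinearMap.range f
    have hTN : N ≤ N.comap T := by
      rintro _ ⟨x, rfl⟩
      exact ⟨T x, by simp [hf]⟩
    let TN : N →ₛₗ[σ] N :=
      { toFun := fun x => ⟨T x, hTN x.2⟩
        map_add' := fun x y => Subtype.ext (by simp)
        map_smul' := fun a x => Subtype.ext (by simp) }
    obtain ⟨hNs, hNf⟩ := ih N TN (by
      rintro ⟨_, x, rfl⟩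
      exact Subtype.ext (by simp [hf, smul_smul, ← pow_succ, h]))
    let TQ : (M ⧸ N) →ₛₗ[σ] (M ⧸ N) := Submodule.mapQ N N T hTN
    have hmk : ∀ x, TQ (N.mkQ x) = N.mkQ (T x) := fun x => rfl
    have htors : Module.IsTorsionBySet R (M ⧸ N) (maximalIdeal R) := by
      rintro q ⟨a, ha⟩
      obtain ⟨x, rfl⟩ := N.mkQ_surjective q
      rw [SetLike.mem_coe, hmax, Ideal.mem_span_singleton'] at ha
      obtain ⟨c, rfl⟩ := ha
      show (c * (p : R)) • N.mkQ x = 0
      rw [← map_smul, Submodule.mkQ_apply, Submodule.Quotient.mk_eq_zero, mul_smul]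
      exact N.smul_mem _ ⟨x, rfl⟩
    letI : Module (ResidueField R) (M ⧸ N) := htors.module
    haveI : IsScalarTower R (ResidueField R) (M ⧸ N) := htors.isScalarTower
    haveI : Module.Finite (ResidueField R) (M ⧸ N) := Module.Finite.of_restrictScalars_finite R _ _
    have hres : ∀ (r : R) (q : M ⧸ N), residue R r • q = r • q := fun r q => IsScalarTower.algebraMap_smul _ r q
    let TK : (M ⧸ N) →ₛₗ[σbar] (M ⧸ N) :=
      { toFun := TQ
        map_add' := map_add TQ
        map_smul' := fun a q => by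
          obtain ⟨r, rfl⟩ := residue_surjective a
          rw [hσbar, hres, hres, map_smulₛₗ] }
    have hTK : ∀ x, TK (N.mkQ x) = N.mkQ (T x) := fun x => rfl
    have hmem : ∀ {x : M}, N.mkQ x = 0 → x ∈ N := fun {x} hx => (Submodule.Quotient.mk_eq_zero N).1 hx
    have hS : Function.Surjective (fun m : M => m - T m) := by
      intro w
      obtain ⟨q, hq⟩ := surjective hsurj TK h2 h3 (N.mkQ w)
      obtain ⟨x, rfl⟩ := N.mkQ_surjective q
      dsimp only at hq
      rw [hTK, ← map_sub, ← sub_eq_zero, ← map_sub] at hq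
      obtain ⟨z, hz⟩ := hNs ⟨_, hmem hq⟩
      have hz' : (z : M) - T z = (x - T x) - w := congrArg Subtype.val hz
      refine ⟨x - z, ?_⟩
      show x - (z : M) - T (x - z) = w
      rw [map_sub]
      linear_combination (norm := module) (-1 : ℤ) • hz'
    refine ⟨hS, fun hlift => ?_⟩
    classical
    obtain ⟨b, hb⟩ := exists_fixed_basis_ssPart TK h2 h3
    have hl : ∀ i, ∃ x : M, T x = x ∧ N.mkQ x = b i := by
      intro i
      obtain ⟨x, hx⟩ := N.mkQ_surjective (b i : M ⧸ N)
      have h0 : T x - x ∈ N := by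
        apply hmem
        rw [map_sub, ← hTK, hx, hb i, sub_self]
      obtain ⟨z, hz⟩ := hNs ⟨_, h0⟩
      have hz' : (z : M) - T z = T x - x := congrArg Subtype.val hz
      refine ⟨x + z, ?_, ?_⟩
      · rw [map_add]; linear_combination (norm := module) (-1 : ℤ) • hz'
      · rw [map_add, hx, show N.mkQ (z : M) = 0 from (Submodule.Quotient.mk_eq_zero N).2 z.2, add_zero]
    choose e he1 he2 using hl
    obtain ⟨s, hs, hsspan⟩ := hNf hlift
    refine ⟨s.image Subtype.val ∪ Finset.univ.image e, ?_, ?_⟩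
    · intro m hm
      rcases Finset.mem_union.1 hm with hm | hm <;> obtain ⟨x, hx, rfl⟩ := Finset.mem_image.1 hm
      · exact congrArg Subtype.val (hs x hx)
      · exact he1 x
    intro m hm
    have hqf : TK (N.mkQ m) = N.mkQ m := by rw [hTK, hm]
    have hqss := mem_span_fixed TK hqf
    have hcoord : ∀ i, σbar (b.repr ⟨_, hqss⟩ i) = b.repr ⟨_, hqss⟩ i := by
      intro i
      have hsum := congrArg Subtype.val (b.sum_repr ⟨_, hqss⟩)
      simp only [AddSubmonoidClass.coe_finsetSum, SetLike.val_smul] at hsum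
      have hT : ∑ l, σbar (b.repr ⟨_, hqss⟩ l) • b l = ⟨_, hqss⟩ := by
        apply Subtype.ext
        simp only [AddSubmonoidClass.coe_finsetSum, SetLike.val_smul]
        have h' := congrArg TK hsum
        rw [hqf, map_sum] at h'
        simpa [hb] using h'
      conv_rhs => rw [← hT, b.repr_sum_self]
    choose r hr1 hr2 using fun i => hlift _ (hcoord i)
    have hd : m - ∑ i, r i • e i ∈ N := by
      apply hmem
      have hsum := congrArg Subtype.val (b.sum_repr ⟨_, hqss⟩)
      simp only [AddSubmonoidClass.coe_finsetSum, SetLike.val_smul] at hsum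
      rw [map_sub, map_sum, sub_eq_zero, ← hsum]
      exact Finset.sum_congr rfl fun i _ => by rw [map_smul, he2, ← hres, hr2]
    have hdfix : TN ⟨_, hd⟩ = ⟨_, hd⟩ := by
      apply Subtype.ext
      show T (m - ∑ i, r i • e i) = _
      simp [map_sub, map_sum, hm, hr1, he1]
    have h1 := hsspan _ hdfix
    rw [← sub_add_cancel m (∑ i, r i • e i)]
    refine add_mem ?_ (Submodule.sum_mem _ fun i _ => ?_)
    · have h1' := Submodule.mem_map_of_mem
        (f := (N.subtype).restrictScalars ↥(RingHom.eqLocus σ (RingHom.id R))) h1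
      rw [Submodule.map_span] at h1'
      refine Submodule.span_mono ?_ h1'
      rintro _ ⟨x, hx, rfl⟩
      simp only [Finset.coe_union, Finset.coe_image]
      exact Or.inl ⟨x, hx, rfl⟩
    · exact Submodule.smul_mem _ (⟨r i, hr1 i⟩ : ↥(RingHom.eqLocus σ (RingHom.id R)))
        (Submodule.subset_span (by simp))

end Devissage

end Groth.SigmaLinH
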