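import Mathlib

/-! Semilinear endomorphisms of finite-dimensional vector spaces: Fitting decomposition and fixed bases. -/

set_option autoImplicit false

universe u v

namespace Groth.SigmaLinH

variable {k : Type u} [Field k] {σ : k →+* k} {V : Type v} [AddCommGroup V] [Module k V]

/-- The hypothesis giving a nonzero fixed vector in every cyclic subspace. -/
def H2 (σ : k →+* k) : Prop :=
  ∀ (n : ℕ) (b : Fin (n + 1) → k), b ≠ 0 →
      ∃ x : k, x ≠ 0 ∧ x = ∑ i : Fin (n + 1), (⇑σ)^[i.val + 1] x * (⇑σ)^[i.val] (b (Fin.rev i))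

/-- The hypothesis making `1 - σ` surjective. -/
def H3 (σ : k →+* k) : Prop := ∀ c : k, ∃ y : k, σ y - y + c = 0

/-- The stable part of a semilinear endomorphism. -/
def ssPart (T : V →ₛₗ[σ] V) : Submodule k V := ⨅ n : ℕ, Submodule.span k (Set.range ((⇑T)^[n]))

theorem span_image_span (T : V →ₛₗ[σ] V) (s : Set V) :
    Submodule.span k (T '' (Submodule.span k s : Set V)) = Submodule.span k (T '' s) := by
  refine le_antisymm (Submodule.span_le.2 ?_) (Submodule.span_mono (Set.image_mono Submodule.subset_span))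
  rintro _ ⟨x, hx, rfl⟩
  induction hx using Submodule.span_induction with
  | mem x hx => exact Submodule.subset_span ⟨x, hx, rfl⟩
  | zero => simp
  | add x y _ _ hx hy => rw [map_add]; exact add_mem hx hy
  | smul a x _ hx => rw [map_smulₛₗ]; exact Submodule.smul_mem _ _ hx

theorem exists_ssPart_eq [FiniteDimensional k V] (T : V →ₛₗ[σ] V) :
    ∃ N, ∀ m, N ≤ m → ssPart T = Submodule.span k (Set.range ((⇑T)^[m])) := by
  have hanti : Antitone fun n => Submodule.span k (Set.range ((⇑T)^[n])) := by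
    refine antitone_nat_of_succ_le fun n => Submodule.span_mono ?_
    rw [Function.iterate_succ]
    exact Set.range_comp_subset_range _ _
  obtain ⟨N, hN⟩ := IsArtinian.monotone_stabilizes (R := k) (M := V) ⟨fun n => OrderDual.toDual _, hanti⟩
  have hN' : ∀ m, N ≤ m → Submodule.span k (Set.range ((⇑T)^[N])) = Submodule.span k (Set.range ((⇑T)^[m])) :=
    fun m hm => hN m hm
  refine ⟨N, fun m hm => le_antisymm (iInf_le _ m) (le_iInf fun j => ?_)⟩
  rcases le_total j m with h | h
  · exact hanti h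
  · rw [← hN' m hm, hN' j (hm.trans h)]

theorem span_image_ssPart [FiniteDimensional k V] (T : V →ₛₗ[σ] V) :
    Submodule.span k (T '' (ssPart T : Set V)) = ssPart T := by
  obtain ⟨N, hN⟩ := exists_ssPart_eq T
  conv_rhs => rw [hN (N + 1) (Nat.le_succ N), Function.iterate_succ', Set.range_comp]
  rw [hN N le_rfl, span_image_span]

theorem apply_mem_ssPart [FiniteDimensional k V] {T : V →ₛₗ[σ] V} {v : V} (hv : v ∈ ssPart T) :
    T v ∈ ssPart T := by
  rw [← span_image_ssPart T]; exact Submodule.subset_span ⟨v, hv, rfl⟩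

theorem iterate_mem_ssPart [FiniteDimensional k V] {T : V →ₛₗ[σ] V} {v : V} (hv : v ∈ ssPart T) :
    ∀ n : ℕ, (⇑T)^[n] v ∈ ssPart T
  | 0 => hv
  | n + 1 => by rw [Function.iterate_succ_apply']; exact apply_mem_ssPart (iterate_mem_ssPart hv n)

/-- `T` restricted to an invariant subspace. -/
def restrict (T : V →ₛₗ[σ] V) (W : Submodule k V) (h : ∀ x ∈ W, T x ∈ W) : W →ₛₗ[σ] W where
  toFun x := ⟨T x, h x x.2⟩
  map_add' x y := Subtype.ext (by simp)
  map_smul' a x := Subtype.ext (by simp)

@[simp] theorem restrict_coe (T : V →ₛₗ[σ] V) (W : Submodule k V) (h) (x : W) :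
    (restrict T W h x : V) = T x := rfl

theorem injective_of_span_range [FiniteDimensional k V] (T : V →ₛₗ[σ] V)
    (h : Submodule.span k (Set.range T) = ⊤) : Function.Injective T := by
  let b := Module.finBasis k V
  have hs : ⊤ ≤ Submodule.span k (Set.range (T ∘ b)) := by
    rw [Set.range_comp, ← span_image_span, b.span_eq]
    simp [h]
  have hli : LinearIndependent k (T ∘ b) :=
    linearIndependent_of_top_le_span_of_card_eq_finrank hs (by simp)
  rw [injective_iff_map_eq_zero]
  intro v hv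
  have h0 : ∑ i, σ (b.repr v i) • (T ∘ b) i = 0 := by
    have h' := congrArg T (b.sum_repr v)
    rw [map_sum, hv] at h'
    simpa using h'
  have := Fintype.linearIndependent_iff.1 hli _ h0
  rw [← b.sum_repr v]
  refine Finset.sum_eq_zero fun i _ => ?_
  have hi := this i
  rw [map_eq_zero] at hi
  rw [hi, zero_smul]

theorem span_range_restrict_ssPart [FiniteDimensional k V] (T : V →ₛₗ[σ] V) :
    Submodule.span k (Set.range (restrict T (ssPart T) fun _ => apply_mem_ssPart)) = ⊤ := by
  apply Submodule.map_injective_of_injective (f := (ssPart T).subtype) Subtype.val_injective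
  rw [Submodule.map_span, Submodule.map_top, Submodule.range_subtype, ← Set.range_comp]
  conv_rhs => rw [← span_image_ssPart T]
  congr 1
  ext x
  simp

theorem injOn_ssPart [FiniteDimensional k V] (T : V →ₛₗ[σ] V) : Set.InjOn T (ssPart T : Set V) := by
  intro x hx y hy h
  exact congrArg Subtype.val (injective_of_span_range _ (span_range_restrict_ssPart T)
    (a₁ := ⟨x, hx⟩) (a₂ := ⟨y, hy⟩) (Subtype.ext h))

theorem eq_zero_of_iterate [FiniteDimensional k V] (T : V →ₛₗ[σ] V) :
    ∀ (n : ℕ) {v : V}, v ∈ ssPart T → (⇑T)^[n] v = 0 → v = 0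
  | 0, _, _, h => h
  | n + 1, v, hv, h => by
    rw [Function.iterate_succ_apply'] at h
    exact eq_zero_of_iterate T n hv (injOn_ssPart T (iterate_mem_ssPart hv n) (zero_mem _) (by simpa using h))

/-- Kernel of the iterate of a semilinear map. -/
def kerPow (T : V →ₛₗ[σ] V) (n : ℕ) : Submodule k V where
  carrier := {v | (⇑T)^[n] v = 0}
  add_mem' {a b} ha hb := by
    simp only [Set.mem_ofPred_eq] at ha hb ⊢
    rw [iterate_map_add (f := T), ha, hb, add_zero]
  zero_mem' := iterate_map_zero (f := T) n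
  smul_mem' a v hv := by
    have key : ∀ (n : ℕ) (v : V), (⇑T)^[n] (a • v) = (⇑σ)^[n] a • (⇑T)^[n] v := by
      intro n
      induction n with
      | zero => simp
      | succ n ih => intro v; simp [Function.iterate_succ_apply', ih]
    simp only [Set.mem_ofPred_eq] at hv ⊢
    rw [key, hv, smul_zero]

theorem kerPow_mono (T : V →ₛₗ[σ] V) : Monotone (kerPow T) := by
  refine monotone_nat_of_le_succ fun n v hv => ?_
  show (⇑T)^[n + 1] v = 0
  rw [Function.iterate_succ_apply', show (⇑T)^[n] v = 0 from hv, map_zero]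

theorem exists_mem_range_apply (hσ : Function.Surjective σ) (T : V →ₛₗ[σ] V) :
    ∀ (n : ℕ) {v : V}, v ∈ Submodule.span k (Set.range ((⇑T)^[n])) → v ∈ Set.range ((⇑T)^[n]) := by
  intro n v hv
  induction hv using Submodule.span_induction with
  | mem x hx => exact hx
  | zero => exact ⟨0, iterate_map_zero (f := T) n⟩
  | add x y _ _ hx hy =>
    obtain ⟨a, rfl⟩ := hx; obtain ⟨b, rfl⟩ := hy
    exact ⟨a + b, iterate_map_add (f := T) n a b⟩
  | smul c x _ hx =>
    obtain ⟨a, rfl⟩ := hx
    obtain ⟨d, rfl⟩ := (hσ.iterate n) c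
    refine ⟨d • a, ?_⟩
    clear * -
    induction n generalizing d a with
    | zero => simp
    | succ n ih => simp [Function.iterate_succ_apply', ih]

theorem fitting [FiniteDimensional k V] (hσ : Function.Surjective σ) (T : V →ₛₗ[σ] V) :
    ∃ N, IsCompl (kerPow T N) (ssPart T) ∧ ∀ m v, (⇑T)^[m] v = 0 → v ∈ kerPow T N := by
  obtain ⟨N, hN⟩ := exists_ssPart_eq T
  have hsurj : ∀ {w}, w ∈ ssPart T → ∃ s ∈ ssPart T, (⇑T)^[N] s = w := by
    intro w hw
    rw [hN (N + N) (by omega)] at hw
    obtain ⟨z, rfl⟩ := exists_mem_range_apply hσ T _ hw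
    refine ⟨(⇑T)^[N] z, ?_, (Function.iterate_add_apply ..).symm⟩
    rw [hN N le_rfl]; exact Submodule.subset_span ⟨z, rfl⟩
  have hd : ∀ v, ∃ s ∈ ssPart T, v - s ∈ kerPow T N := by
    intro v
    obtain ⟨s, hs, h⟩ := hsurj (w := (⇑T)^[N] v) (by rw [hN N le_rfl]; exact Submodule.subset_span ⟨v, rfl⟩)
    exact ⟨s, hs, show (⇑T)^[N] (v - s) = 0 by rw [iterate_map_sub (f := T), h, sub_self]⟩
  refine ⟨N, ⟨?_, ?_⟩, ?_⟩
  · rw [disjoint_iff, Submodule.eq_bot_iff]
    exact fun v ⟨h1, h2⟩ => eq_zero_of_iterate T N h2 h1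
  · rw [codisjoint_iff, eq_top_iff]
    intro v _
    obtain ⟨s, hs, h⟩ := hd v
    exact Submodule.mem_sup.2 ⟨_, h, s, hs, sub_add_cancel v s⟩
  · intro m v hm
    obtain ⟨s, hs, h⟩ := hd v
    have h' : (⇑T)^[max m N] s = 0 := by
      have h1 : v ∈ kerPow T (max m N) := kerPow_mono T (le_max_left _ _) hm
      have h2 : v - s ∈ kerPow T (max m N) := kerPow_mono T (le_max_right _ _) h
      have h3 := sub_mem h1 h2
      rwa [sub_sub_cancel] at h3
    rwa [eq_zero_of_iterate T _ hs h', sub_zero] at h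

theorem bijOn_ssPart [FiniteDimensional k V] (hσ : Function.Surjective σ) (T : V →ₛₗ[σ] V) :
    Set.BijOn T (ssPart T : Set V) (ssPart T : Set V) := by
  refine ⟨fun v hv => apply_mem_ssPart hv, injOn_ssPart T, fun w hw => ?_⟩
  obtain ⟨N, hN⟩ := exists_ssPart_eq T
  have hw' : w ∈ Submodule.span k (Set.range ((⇑T)^[N + 1])) := by rw [← hN _ (Nat.le_succ N)]; exact hw
  obtain ⟨z, rfl⟩ := exists_mem_range_apply hσ T _ hw'
  refine ⟨(⇑T)^[N] z, ?_, (Function.iterate_succ_apply' ..).symm⟩
  rw [SetLike.mem_coe, hN N le_rfl]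
  exact Submodule.subset_span ⟨z, rfl⟩

theorem exists_fixed_mem_orbit [FiniteDimensional k V] (T : V →ₛₗ[σ] V) (h2 : H2 σ)
    (e : V) (he : ∀ m : ℕ, (⇑T)^[m] e ≠ 0) :
    ∃ v ∈ Submodule.span k (Set.range (fun m : ℕ => (⇑T)^[m] e)), v ≠ 0 ∧ T v = v := by
  classical
  let f : ℕ → V := fun m => (⇑T)^[m] e
  have hex : ∃ N, f N ∈ Submodule.span k (f '' Set.Iio N) := by
    obtain ⟨N, hN⟩ := monotone_stabilizes_iff_noetherian.2 (inferInstance : IsNoetherian k V)
      ⟨fun N => Submodule.span k (f '' Set.Iio N),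
        fun a b hab => Submodule.span_mono (Set.image_mono (Set.Iio_subset_Iio hab))⟩
    refine ⟨N, ?_⟩
    have := hN (N + 1) (Nat.le_succ N)
    change Submodule.span k (f '' Set.Iio N) = Submodule.span k (f '' Set.Iio (N + 1)) at this
    rw [this]; exact Submodule.subset_span ⟨N, Nat.lt_succ_self N, rfl⟩
  have hN := Nat.find_spec hex
  have hmin : ∀ j < Nat.find hex, f j ∉ Submodule.span k (f '' Set.Iio j) := fun j hj => Nat.find_min hex hj
  generalize Nat.find hex = M at hN hmin
  obtain ⟨n, rfl⟩ : ∃ n, M = n + 1 := by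
    refine Nat.exists_eq_succ_of_ne_zero ?_
    rintro rfl
    exact he 0 (by simpa [f] using hN)
  have hli : ∀ j ≤ n + 1, LinearIndependent k (fun i : Fin j => f i) := by
    intro j hj
    induction j with
    | zero => exact linearIndependent_empty_type
    | succ j ih =>
      have : (fun i : Fin (j + 1) => f i) = Fin.snoc (fun i : Fin j => f i) (f j) := by
        funext i
        refine Fin.lastCases ?_ (fun i => ?_) i <;> simp
      rw [this, linearIndependent_finSnoc]
      refine ⟨ih (by omega), fun hmem => hmin j (by omega) ?_⟩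
      refine Submodule.span_mono ?_ hmem
      rintro _ ⟨i, rfl⟩; exact ⟨i, i.2, rfl⟩
  have hN' : f (n + 1) ∈ Submodule.span k (Set.range fun i : Fin (n + 1) => f i) := by
    refine Submodule.span_mono ?_ hN
    rintro _ ⟨i, hi, rfl⟩; exact ⟨⟨i, hi⟩, rfl⟩
  obtain ⟨b, hb⟩ := Submodule.mem_span_range_iff_exists_fun k |>.1 hN'
  have hb0 : b ≠ 0 := by
    rintro rfl
    exact he (n + 1) (by simpa [f] using hb.symm)
  obtain ⟨x, hx0, hx⟩ := h2 n b hb0
  let b' : ℕ → k := fun i => if h : i < n + 1 then b ⟨i, h⟩ else 0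
  have hb' : f (n + 1) = ∑ i ∈ Finset.range (n + 1), b' i • f i := by
    rw [← hb, Finset.sum_range]; simp [b', Fin.is_le]
  let c : ℕ → k := fun i => Nat.rec (σ x * b' 0) (fun i ci => σ ci + σ x * b' (i + 1)) i
  have hc : ∀ i, c i = ∑ l ∈ Finset.range (i + 1), (⇑σ)^[l] (σ x * b' (i - l)) := by
    intro i
    induction i with
    | zero => simp [c]
    | succ i ih =>
      show σ (c i) + σ x * b' (i + 1) = _
      rw [Finset.sum_range_succ', ih, map_sum]
      simp [Function.iterate_succ_apply']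
  have hcn : c n = x := by
    rw [hc, Finset.sum_range]
    refine Eq.trans ?_ hx.symm
    refine Finset.sum_congr rfl fun l _ => ?_
    rw [iterate_map_mul (f := σ), ← Function.iterate_succ_apply]
    have : b' (n - l.val) = b (Fin.rev l) := by
      simp only [b', show n - l.val < n + 1 by omega, dif_pos]
      congr 1; ext; simp [Fin.rev]
    rw [this]
  refine ⟨∑ i ∈ Finset.range (n + 1), c i • f i, Submodule.sum_mem _ fun i _ =>
    Submodule.smul_mem _ _ (Submodule.subset_span ⟨i, rfl⟩), ?_, ?_⟩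
  · intro h
    rw [Finset.sum_range] at h
    have := Fintype.linearIndependent_iff.1 (hli (n + 1) le_rfl) _ h (Fin.last n)
    simp only [Fin.val_last, hcn] at this
    exact hx0 this
  · rw [map_sum]
    have hT : ∀ i, T (c i • f i) = σ (c i) • f (i + 1) := fun i => by
      simp [f, Function.iterate_succ_apply']
    simp only [hT]
    rw [Finset.sum_range_succ, hcn, hb', Finset.smul_sum]
    conv_rhs => rw [Finset.sum_range_succ']
    conv_lhs => arg 2; rw [Finset.sum_range_succ']
    simp only [smul_smul, ← add_assoc, ← Finset.sum_add_distrib, ← add_smul]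
    rfl

/-- Solve `v - T v = w` in the span of a family of fixed vectors. -/
theorem exists_sub_eq_of_mem_span {ι : Type*} [Fintype ι] (T : V →ₛₗ[σ] V) (h3 : H3 σ) (b : ι → V)
    (hb : ∀ i, T (b i) = b i) {w : V} (hw : w ∈ Submodule.span k (Set.range b)) :
    ∃ v ∈ Submodule.span k (Set.range b), v - T v = w := by
  obtain ⟨a, rfl⟩ := (Submodule.mem_span_range_iff_exists_fun k).1 hw
  choose y hy using h3
  refine ⟨∑ i, y (a i) • b i, (Submodule.mem_span_range_iff_exists_fun k).2 ⟨_, rfl⟩, ?_⟩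
  simp only [map_sum, map_smulₛₗ, hb, ← Finset.sum_sub_distrib, ← sub_smul]
  refine Finset.sum_congr rfl fun i _ => ?_
  congr 1
  linear_combination -(hy (a i))

theorem exists_fixed_basis_of_span [FiniteDimensional k V] (T : V →ₛₗ[σ] V)
    (h1 : Submodule.span k (Set.range T) = ⊤) (h2 : H2 σ) (h3 : H3 σ) :
    ∃ b : Module.Basis (Fin (Module.finrank k V)) k V, ∀ i, T (b i) = b i := by
  let U := Submodule.span k {v : V | T v = v}
  have hUT : U ≤ U.comap T := by
    intro v hv
    show T v ∈ U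
    have : T v ∈ Submodule.span k (T '' (U : Set V)) := Submodule.subset_span ⟨v, hv, rfl⟩
    rw [span_image_span] at this
    refine Submodule.span_mono ?_ this
    rintro _ ⟨x, hx, rfl⟩
    show T (T x) = T x
    exact congrArg T hx
  obtain ⟨s, hs, hspan, hsli⟩ := exists_linearIndependent k {v : V | T v = v}
  haveI := hsli.finite
  haveI : Fintype s := Fintype.ofFinite s
  have hU : U = Submodule.span k (Set.range ((↑) : s → V)) := by rw [Subtype.range_coe, hspan]
  have htop : U = ⊤ := by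
    by_contra hne
    let Tb : (V ⧸ U) →ₛₗ[σ] (V ⧸ U) := Submodule.mapQ U U T hUT
    have hmk : ∀ x, Tb (U.mkQ x) = U.mkQ (T x) := fun x => rfl
    have hspanb : Submodule.span k (Set.range Tb) = ⊤ := by
      rw [eq_top_iff]
      have h' := congrArg (Submodule.map U.mkQ) h1
      rw [Submodule.map_span, Submodule.map_top, Submodule.range_mkQ] at h'
      rw [← h']
      refine Submodule.span_mono ?_
      rintro _ ⟨_, ⟨x, rfl⟩, rfl⟩
      exact ⟨U.mkQ x, hmk x⟩
    obtain ⟨x, hx⟩ : ∃ x, x ∉ U := by simpa [Submodule.eq_top_iff'] using hne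
    have hit : ∀ m : ℕ, (⇑Tb)^[m] (U.mkQ x) ≠ 0 := by
      intro m h
      have hinj := (injective_of_span_range Tb hspanb).iterate m
      rw [← iterate_map_zero (f := Tb) m] at h
      exact hx ((Submodule.Quotient.mk_eq_zero U).1 (hinj h))
    obtain ⟨vb, -, hvb0, hvb⟩ := exists_fixed_mem_orbit Tb h2 _ hit
    obtain ⟨v, rfl⟩ := U.mkQ_surjective vb
    have hd : T v - v ∈ U := (Submodule.Quotient.eq U).1 hvb
    rw [hU] at hd
    obtain ⟨z, hz, hz'⟩ := exists_sub_eq_of_mem_span T h3 _ (fun i => hs i.2) hd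
    rw [← hU] at hz
    have hfix : T (v + z) = v + z := by
      rw [map_add, ← sub_eq_zero]
      rw [← sub_eq_zero] at hz'
      linear_combination (norm := module) (-1 : ℤ) • hz'
    apply hvb0
    rw [Submodule.mkQ_apply, Submodule.Quotient.mk_eq_zero]
    simpa using sub_mem (show v + z ∈ U from Submodule.subset_span hfix) hz
  let B : Module.Basis s k V := Module.Basis.mk hsli (by rw [← hU, htop])
  refine ⟨B.reindex (Fintype.equivFinOfCardEq (Module.finrank_eq_card_basis B).symm), fun i => ?_⟩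
  rw [Module.Basis.reindex_apply, Module.Basis.mk_apply]
  exact hs (Subtype.coe_prop _)

theorem surjective_of_span [FiniteDimensional k V] (T : V →ₛₗ[σ] V)
    (h1 : Submodule.span k (Set.range T) = ⊤) (h2 : H2 σ) (h3 : H3 σ) :
    Function.Surjective (fun v : V => v - T v) := by
  obtain ⟨b, hb⟩ := exists_fixed_basis_of_span T h1 h2 h3
  intro w
  obtain ⟨v, -, hv⟩ := exists_sub_eq_of_mem_span T h3 b hb (w := w) (by simp [b.span_eq])
  exact ⟨v, hv⟩

theorem exists_fixed_basis_ssPart [FiniteDimensional k V] (T : V →ₛₗ[σ] V) (h2 : H2 σ) (h3 : H3 σ) :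
    ∃ b : Module.Basis (Fin (Module.finrank k ↥(ssPart T))) k ↥(ssPart T), ∀ i, T (b i : V) = (b i : V) := by
  obtain ⟨b, hb⟩ := exists_fixed_basis_of_span _ (span_range_restrict_ssPart T) h2 h3
  exact ⟨b, fun i => congrArg Subtype.val (hb i)⟩

theorem surjective [FiniteDimensional k V] (hσ : Function.Surjective σ) (T : V →ₛₗ[σ] V)
    (h2 : H2 σ) (h3 : H3 σ) : Function.Surjective (fun v : V => v - T v) := by
  obtain ⟨N, hc, -⟩ := fitting hσ T
  intro w
  obtain ⟨a, ha, b, hb, rfl⟩ := Submodule.mem_sup.1 (show w ∈ kerPow T N ⊔ ssPart T by rw [hc.sup_eq_top]; trivial)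
  obtain ⟨z, hz⟩ := surjective_of_span _ (span_range_restrict_ssPart T) h2 h3 ⟨b, hb⟩
  have hz' : (z : V) - T z = b := congrArg Subtype.val hz
  refine ⟨(∑ i ∈ Finset.range N, (⇑T)^[i] a) + z, ?_⟩
  show _ - _ = _
  rw [map_add, add_sub_add_comm, hz', map_sum]
  congr 1
  simp only [← Function.iterate_succ_apply' (f := T)]
  rw [← Finset.sum_sub_distrib, Finset.sum_range_sub' (fun i => (⇑T)^[i] a)]
  simp [show (⇑T)^[N] a = 0 from ha]

theorem mem_span_fixed [FiniteDimensional k V] (T : V →ₛₗ[σ] V) {v : V} (hv : T v = v) : v ∈ ssPart T := by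
  rw [ssPart, Submodule.mem_iInf]
  exact fun n => Submodule.subset_span ⟨v, Function.iterate_fixed hv n⟩

end Groth.SigmaLinH
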