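import Groth.Agent.SigmaLinH.Local
import Groth.Prelude.Def_WittGrp

/-! Semilinear endomorphisms of finite modules over truncated Witt vectors of an algebraically closed field. -/

set_option autoImplicit false

universe u v

namespace Groth.SigmaLinH

open IsLocalRing

theorem H2.transfer {k K : Type*} [Field k] [Field K] (e : K ≃+* k) {σ : k →+* k} {τ : K →+* K}
    (h : ∀ x, e (τ x) = σ (e x)) (H : H2 σ) : H2 τ := by
  have hit : ∀ (m : ℕ) x, e ((⇑τ)^[m] x) = (⇑σ)^[m] (e x) := fun m x =>
    (Function.Semiconj.iterate_right (f := e) h m).eq x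
  intro n b hb
  obtain ⟨x, hx0, hx⟩ := H n (e ∘ b) (fun h0 => hb (funext fun i => e.injective (by simpa using congrFun h0 i)))
  refine ⟨e.symm x, by simpa using hx0, e.injective ?_⟩
  conv_lhs => rw [RingEquiv.apply_symm_apply, hx]
  simp [hit, h]

theorem H3.transfer {k K : Type*} [Field k] [Field K] (e : K ≃+* k) {σ : k →+* k} {τ : K →+* K}
    (h : ∀ x, e (τ x) = σ (e x)) (H : H3 σ) : H3 τ := by
  intro c
  obtain ⟨y, hy⟩ := H (e c)
  exact ⟨e.symm y, e.injective (by simp [h, hy])⟩

variable (p : ℕ) [Fact p.Prime] (k : Type u) [Field k]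

/-- The zeroth coefficient of a truncated Witt vector. -/
noncomputable def coeffZero (n : ℕ) : TruncatedWittVector p (n + 1) k →+* k where
  toFun x := x.coeff 0
  map_one' := by
    rw [← map_one (WittVector.truncate (n + 1) (R := k) (p := p)), WittVector.coeff_truncate]
    exact WittVector.one_coeff_zero p k
  map_mul' a b := by
    obtain ⟨a, rfl⟩ := WittVector.truncate_surjective p (n + 1) k a
    obtain ⟨b, rfl⟩ := WittVector.truncate_surjective p (n + 1) k b
    simp only [← map_mul, WittVector.coeff_truncate]
    exact WittVector.mul_coeff_zero a b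
  map_zero' := TruncatedWittVector.coeff_zero p (n + 1) k 0
  map_add' a b := by
    obtain ⟨a, rfl⟩ := WittVector.truncate_surjective p (n + 1) k a
    obtain ⟨b, rfl⟩ := WittVector.truncate_surjective p (n + 1) k b
    simp only [← map_add, WittVector.coeff_truncate]
    exact WittVector.add_coeff_zero a b

variable [CharP k p] [IsAlgClosed k]

/-- Both conclusions of the dévissage over truncated Witt vectors. -/
theorem witt (n : ℕ) (σ : TruncatedWittVector p n k →+* TruncatedWittVector p n k)
    (hσ : σ = WittGrp.truncMap p n (frobenius k p) ∨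
      σ = WittGrp.truncMap p n (frobeniusEquiv k p).symm.toRingHom)
    (M : Type v) [AddCommGroup M] [Module (TruncatedWittVector p n k) M] [Module.Finite (TruncatedWittVector p n k) M]
    (T : M →ₛₗ[σ] M) :
    Function.Surjective (fun m : M => m - T m) ∧ {m : M | T m = m}.Finite := by
  rcases n with - | n
  · haveI : Subsingleton (TruncatedWittVector p 0 k) := ⟨fun a b => TruncatedWittVector.ext fun i => i.elim0⟩
    haveI : Subsingleton M := Module.subsingleton (TruncatedWittVector p 0 k) M
    exact ⟨fun w => ⟨0, Subsingleton.elim _ _⟩, Set.toFinite _⟩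
  obtain ⟨f, hf, hff⟩ : ∃ f : k →+* k, (f = frobenius k p ∨ f = (frobeniusEquiv k p).symm.toRingHom) ∧
      σ = WittGrp.truncMap p (n + 1) f := by
    rcases hσ with h | h
    · exact ⟨_, Or.inl rfl, h⟩
    · exact ⟨_, Or.inr rfl, h⟩
  subst hff
  clear hσ
  have hfs : Function.Surjective f := by
    rcases hf with rfl | rfl
    · exact (frobeniusEquiv k p).surjective
    · exact (frobeniusEquiv k p).symm.surjective
  have hfix : {x : k | f x = x}.Finite := by
    refine (frobenius_fixed_finite k p).subset fun x hx => ?_
    rcases hf with rfl | rfl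
    · exact hx
    · have := congrArg (frobeniusEquiv k p) hx
      simpa [eq_comm] using this
  haveI : Nontrivial (TruncatedWittVector p (n + 1) k) := (coeffZero p k n).domain_nontrivial
  have hts := WittVector.truncate_surjective p (n + 1) k
  haveI : IsLocalRing (TruncatedWittVector p (n + 1) k) := IsLocalRing.of_surjective' _ hts
  have hc0s : Function.Surjective (coeffZero p k n) := fun a =>
    ⟨WittVector.truncate (n + 1) (WittVector.teichmuller p a), by
      show (WittVector.truncate (n + 1) (WittVector.teichmuller p a)).coeff (0 : Fin (n + 1)) = a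
      rw [WittVector.coeff_truncate]; exact WittVector.teichmuller_coeff_zero p a⟩
  have hker : RingHom.ker (coeffZero p k n) = maximalIdeal (TruncatedWittVector p (n + 1) k) :=
    IsLocalRing.eq_maximalIdeal (RingHom.ker_isMaximal_of_surjective _ hc0s)
  have hmax : maximalIdeal (TruncatedWittVector p (n + 1) k) =
      Ideal.span {(p : TruncatedWittVector p (n + 1) k)} := by
    haveI : IsLocalHom (WittVector.truncate (n + 1) (R := k) (p := p)) := hts.isLocalHom
    rw [← IsLocalRing.map_maximalIdeal_of_surjective _ hts, (WittVector.irreducible p).maximalIdeal_eq,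
      Ideal.map_span, Set.image_singleton, map_natCast]
  have hpn : ∀ m : M, (p : TruncatedWittVector p (n + 1) k) ^ (n + 1) • m = 0 := by
    intro m
    have hz : (p : TruncatedWittVector p (n + 1) k) ^ (n + 1) = 0 := by
      rw [← map_natCast (WittVector.truncate (n + 1) (R := k) (p := p)), ← map_pow]
      refine TruncatedWittVector.ext fun i => ?_
      rw [WittVector.coeff_truncate, TruncatedWittVector.coeff_zero, WittVector.coeff_p_pow_eq_zero p k]
      exact ne_of_lt i.2
    rw [hz, zero_smul]
  let e : ResidueField (TruncatedWittVector p (n + 1) k) ≃+* k :=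
    (Ideal.quotEquivOfEq hker.symm).trans (RingHom.quotientKerEquivOfSurjective hc0s)
  have he : ∀ r : TruncatedWittVector p (n + 1) k, e (residue _ r) = r.coeff (0 : Fin (n + 1)) := fun r => rfl
  let σbar := (e.symm.toRingHom.comp f).comp e.toRingHom
  have hsb : ∀ x, e (σbar x) = f (e x) := fun x => e.apply_symm_apply _
  obtain ⟨h1, h2⟩ := devissage hmax (WittGrp.truncMap p (n + 1) f) σbar
    (fun r => e.injective (by rw [hsb, he, he, WittGrp.coeff_truncMap]))
    (by
      intro x
      obtain ⟨y, hy⟩ := hfs (e x)
      exact ⟨e.symm y, e.injective (by rw [hsb, e.apply_symm_apply, hy])⟩)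
    (by rcases hf with rfl | rfl
        · exact (H2_frobenius k p).transfer e hsb
        · exact (H2_frobenius_symm k p).transfer e hsb)
    (by rcases hf with rfl | rfl
        · exact (H3_frobenius k p).transfer e hsb
        · exact (H3_frobenius_symm k p).transfer e hsb)
    (n + 1) M T hpn
  refine ⟨h1, ?_⟩
  obtain ⟨s, -, hs⟩ := h2 (by
    intro x hx
    refine ⟨WittVector.truncate (n + 1) (WittVector.teichmuller p (e x)), ?_, e.injective ?_⟩
    · rw [WittGrp.truncMap_truncate, WittVector.map_teichmuller, ← hsb, hx]
    · rw [he, WittVector.coeff_truncate]; exact WittVector.teichmuller_coeff_zero p _)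
  let A := RingHom.eqLocus (WittGrp.truncMap p (n + 1) f) (RingHom.id _)
  haveI : Finite A := by
    haveI := hfix.to_subtype
    refine Finite.of_injective (β := Fin (n + 1) → {x : k | f x = x})
      (fun r i => ⟨r.1.coeff i, by
        have h : WittGrp.truncMap p (n + 1) f r.1 = r.1 := r.2
        show f (r.1.coeff i) = r.1.coeff i
        conv_rhs => rw [← h, WittGrp.coeff_truncMap]⟩) ?_
    intro a b h
    exact Subtype.ext (TruncatedWittVector.ext fun i => congrArg Subtype.val (congrFun h i))
  haveI : Module.Finite A (Submodule.span A (s : Set M)) := Module.Finite.span_of_finite A s.finite_toSet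
  haveI : Finite (Submodule.span A (s : Set M)) := Module.finite_of_finite A
  exact (Set.toFinite (Submodule.span A (s : Set M) : Set M)).subset fun m hm => hs m hm

end Groth.SigmaLinH
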